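import Mathlib

/-!
Involutions whose centraliser is a double cover of an alternating group: the basic structure `Cov t n`
and the lifting relation `c.L g σ`.
-/

set_option autoImplicit false
set_option linter.dupNamespace false

namespace Cfsg.Agent.LyonsType.Cov

open Equiv

/-- `Cov t n`: the centraliser of `t` is an extension of the alternating group of degree `n` by `{1, t}`
(`t` of order 2) in which every product of two disjoint transpositions lifts to elements with square `t`. -/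
structure Cov {G : Type*} [Group G] (t : G) (n : ℕ) where
  /-- the projection of the centraliser of `t` onto the alternating group -/
  π : Subgroup.centralizer ({t} : Set G) →* Perm (Fin n)
  range_eq : π.range = alternatingGroup (Fin n)
  ker_iff : ∀ g : Subgroup.centralizer ({t} : Set G), π g = 1 ↔ ((g : G) = 1 ∨ (g : G) = t)
  ne_one : t ≠ 1
  sq : t * t = 1
  dbl : ∀ (g : Subgroup.centralizer ({t} : Set G)) (a b c d : Fin n), [a, b, c, d].Nodup →
    π g = swap a b * swap c d → (g : G) * g = t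

variable {G : Type*} [Group G] {t : G} {n : ℕ}

/-- `c.L g σ`: `g` commutes with `t` and lies over the permutation `σ`. -/
def Cov.L (c : Cov t n) (g : G) (σ : Perm (Fin n)) : Prop :=
  ∃ h : g ∈ Subgroup.centralizer ({t} : Set G), c.π ⟨g, h⟩ = σ

theorem mem_cent_iff {g : G} : g ∈ Subgroup.centralizer ({t} : Set G) ↔ g * t = t * g := by
  rw [Subgroup.mem_centralizer_singleton_iff]

namespace Cov

theorem inv_eq (c : Cov t n) : t⁻¹ = t := inv_eq_of_mul_eq_one_left c.sq

variable {c : Cov t n} {g h : G} {σ τ : Perm (Fin n)}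

theorem L.comm (hg : c.L g σ) : g * t = t * g := mem_cent_iff.mp hg.1

theorem L.even (hg : c.L g σ) : σ ∈ alternatingGroup (Fin n) := by
  obtain ⟨h, rfl⟩ := hg
  rw [← c.range_eq]
  exact ⟨_, rfl⟩

theorem L.sign (hg : c.L g σ) : Perm.sign σ = 1 := Perm.mem_alternatingGroup.mp hg.even

theorem L.one : c.L 1 1 := ⟨one_mem _, map_one c.π⟩

theorem L.self : c.L t 1 := ⟨mem_cent_iff.mpr rfl, (c.ker_iff _).mpr (Or.inr rfl)⟩

theorem L.mul (hg : c.L g σ) (hh : c.L h τ) : c.L (g * h) (σ * τ) := by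
  obtain ⟨h1, rfl⟩ := hg
  obtain ⟨h2, rfl⟩ := hh
  exact ⟨mul_mem h1 h2, (map_mul c.π ⟨g, h1⟩ ⟨h, h2⟩)⟩

theorem L.inv (hg : c.L g σ) : c.L g⁻¹ σ⁻¹ := by
  obtain ⟨h1, rfl⟩ := hg
  exact ⟨inv_mem h1, (map_inv c.π ⟨g, h1⟩)⟩

theorem L.conj (hg : c.L g σ) (hh : c.L h τ) : c.L (g * h * g⁻¹) (σ * τ * σ⁻¹) :=
  (hg.mul hh).mul hg.inv

theorem L.pow (hg : c.L g σ) (k : ℕ) : c.L (g ^ k) (σ ^ k) := by
  induction k with
  | zero => simpa using L.one
  | succ k ih => rw [pow_succ, pow_succ]; exact ih.mul hg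

theorem L.mul_t (hg : c.L g σ) : c.L (g * t) σ := by simpa using hg.mul L.self

theorem L.right_unique (hg : c.L g σ) (hg' : c.L g τ) : σ = τ := by
  obtain ⟨h1, rfl⟩ := hg
  obtain ⟨h2, rfl⟩ := hg'
  rfl

theorem L.eq_one_or (hg : c.L g 1) : g = 1 ∨ g = t := by
  obtain ⟨h1, h2⟩ := hg
  exact (c.ker_iff _).mp h2

theorem L.eq_or (hg : c.L g σ) (hh : c.L h σ) : g = h ∨ g = h * t := by
  have h1 : c.L (h⁻¹ * g) 1 := by simpa using hh.inv.mul hg
  rcases h1.eq_one_or with h | h
  · left; rw [inv_mul_eq_one] at h; exact h.symm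
  · right; rw [← h]; group

variable (c) in
theorem exists_lift (hσ : σ ∈ alternatingGroup (Fin n)) : ∃ g, c.L g σ := by
  rw [← c.range_eq] at hσ
  obtain ⟨g, rfl⟩ := hσ
  exact ⟨g, g.2, rfl⟩

variable (c) in
theorem exists_perm (hg : g * t = t * g) : ∃ σ, c.L g σ := ⟨_, mem_cent_iff.mpr hg, rfl⟩

theorem ne_of_odd (c : Cov t n) {m : ℕ} (hm : Odd m) (hgm : g ^ m = 1) : g ≠ t := by
  rintro rfl
  obtain ⟨k, rfl⟩ := hm
  rw [pow_succ, pow_mul, pow_two, c.sq, one_pow, one_mul] at hgm
  exact c.ne_one hgm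

variable (c) in
/-- permutations of odd order have lifts of the same odd exponent -/
theorem exists_odd_lift {m : ℕ} (hm : Odd m) (hσ : σ ^ m = 1) (he : σ ∈ alternatingGroup (Fin n)) :
    ∃ g, c.L g σ ∧ g ^ m = 1 := by
  obtain ⟨g, hg⟩ := c.exists_lift he
  have h1 := hg.pow m
  rw [hσ] at h1
  rcases h1.eq_one_or with h | h
  · exact ⟨g, hg, h⟩
  · refine ⟨g * t, hg.mul_t, ?_⟩
    have hc : Commute g t := hg.comm
    rw [hc.mul_pow, h]
    obtain ⟨k, rfl⟩ := hm
    rw [pow_succ, pow_mul, pow_two, c.sq, one_pow, one_mul, c.sq]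

theorem L.unique_odd {m : ℕ} (hm : Odd m) (hg : c.L g σ) (hh : c.L h σ) (hgm : g ^ m = 1)
    (hhm : h ^ m = 1) : g = h := by
  rcases hg.eq_or hh with h1 | h1
  · exact h1
  · exfalso
    have hc : Commute h t := hh.comm
    rw [h1, hc.mul_pow, hhm, one_mul] at hgm
    obtain ⟨k, rfl⟩ := hm
    rw [pow_succ, pow_mul, pow_two, c.sq, one_pow, one_mul] at hgm
    exact c.ne_one hgm

/-- lifts of commuting permutations commute up to `t` -/
theorem L.comm_or (hg : c.L g σ) (hh : c.L h τ) (hc : σ * τ = τ * σ) :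
    g * h * g⁻¹ = h ∨ g * h * g⁻¹ = h * t := by
  have h1 := hg.conj hh
  rw [hc, mul_inv_cancel_right] at h1
  exact h1.eq_or hh

/-- lifts of commuting permutations commute if one of the lifts has odd order -/
theorem L.commute_of_odd {m : ℕ} (hm : Odd m) (hg : c.L g σ) (hh : c.L h τ) (hc : σ * τ = τ * σ)
    (hgm : g ^ m = 1) : g * h = h * g := by
  rcases hh.comm_or hg hc.symm with h1 | h1
  · rw [mul_inv_eq_iff_eq_mul] at h1; exact h1.symm
  · exfalso
    have h2 : (h * g * h⁻¹) ^ m = 1 := by rw [conj_pow, hgm, mul_one, mul_inv_cancel]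
    have hc' : Commute g t := hg.comm
    rw [h1, hc'.mul_pow, hgm, one_mul] at h2
    obtain ⟨k, rfl⟩ := hm
    rw [pow_succ, pow_mul, pow_two, c.sq, one_pow, one_mul] at h2
    exact c.ne_one h2

/-- an involution of the centraliser other than `t` lies over an involution -/
theorem L.sq_eq_one (hg : c.L g σ) (h2 : g * g = 1) : σ * σ = 1 :=
  (hg.mul hg).right_unique (by rw [h2]; exact L.one)

theorem L.perm_ne_one (hg : c.L g σ) (h1 : g ≠ 1) (h2 : g ≠ t) : σ ≠ 1 := by
  rintro rfl
  exact hg.eq_one_or.elim h1 h2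

/-- transport of the structure to a conjugate involution -/
def conj (c : Cov t n) (x : G) : Cov (x * t * x⁻¹) n where
  π := c.π.comp
    { toFun := fun g => ⟨x⁻¹ * g * x, by
        have := mem_cent_iff.mp g.2
        rw [mem_cent_iff]
        have h : (g : G) * (x * t * x⁻¹) = x * t * x⁻¹ * g := this
        calc x⁻¹ * g * x * t = x⁻¹ * (g * (x * t * x⁻¹)) * x := by group
          _ = x⁻¹ * (x * t * x⁻¹ * g) * x := by rw [h]
          _ = t * (x⁻¹ * g * x) := by group⟩
      map_one' := by ext; simp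
      map_mul' := fun a b => by ext; simp [mul_assoc] }
  range_eq := by
    rw [← c.range_eq]
    ext σ
    constructor
    · rintro ⟨g, rfl⟩
      exact ⟨_, rfl⟩
    · rintro ⟨g, rfl⟩
      refine ⟨⟨x * g * x⁻¹, ?_⟩, ?_⟩
      · have := mem_cent_iff.mp g.2
        rw [mem_cent_iff]
        calc x * g * x⁻¹ * (x * t * x⁻¹) = x * (g * t) * x⁻¹ := by group
          _ = x * (t * g) * x⁻¹ := by rw [this]
          _ = _ := by group
      · change c.π _ = c.π _
        congr 1
        ext
        change x⁻¹ * (x * (g : G) * x⁻¹) * x = g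
        group
  ker_iff := fun g => by
    change c.π _ = 1 ↔ _
    rw [c.ker_iff]
    change (x⁻¹ * (g : G) * x = 1 ∨ x⁻¹ * (g : G) * x = t) ↔ _
    constructor
    · rintro (h | h)
      · left
        have : (g : G) = x * (x⁻¹ * g * x) * x⁻¹ := by group
        rw [this, h]; group
      · right
        have : (g : G) = x * (x⁻¹ * g * x) * x⁻¹ := by group
        rw [this, h]
    · rintro (h | h)
      · left; rw [h]; group
      · right; rw [h]; group
  ne_one := by
    intro h
    apply c.ne_one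
    have : t = x⁻¹ * (x * t * x⁻¹) * x := by group
    rw [this, h]; group
  sq := by
    calc x * t * x⁻¹ * (x * t * x⁻¹) = x * (t * t) * x⁻¹ := by group
      _ = 1 := by rw [c.sq]; group
  dbl := fun g a b d e hnd h => by
    have h1 := c.dbl ⟨x⁻¹ * g * x, _⟩ a b d e hnd h
    change x⁻¹ * (g : G) * x * (x⁻¹ * g * x) = t at h1
    calc (g : G) * g = x * (x⁻¹ * (g : G) * x * (x⁻¹ * g * x)) * x⁻¹ := by group
      _ = x * t * x⁻¹ := by rw [h1]

theorem conj_L (c : Cov t n) (x : G) (g : G) (σ : Perm (Fin n)) :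
    (c.conj x).L (x * g * x⁻¹) σ ↔ c.L g σ := by
  constructor
  · rintro ⟨h, hσ⟩
    refine ⟨?_, ?_⟩
    · have := mem_cent_iff.mp h
      rw [mem_cent_iff]
      calc g * t = x⁻¹ * (x * g * x⁻¹ * (x * t * x⁻¹)) * x := by group
        _ = x⁻¹ * (x * t * x⁻¹ * (x * g * x⁻¹)) * x := by rw [this]
        _ = t * g := by group
    · rw [← hσ]
      change _ = c.π _
      congr 1
      ext
      change g = x⁻¹ * (x * g * x⁻¹) * x
      group
  · rintro ⟨h, hσ⟩
    refine ⟨?_, ?_⟩
    · have := mem_cent_iff.mp h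
      rw [mem_cent_iff]
      calc x * g * x⁻¹ * (x * t * x⁻¹) = x * (g * t) * x⁻¹ := by group
        _ = x * (t * g) * x⁻¹ := by rw [this]
        _ = _ := by group
    · rw [← hσ]
      change c.π _ = _
      congr 1
      ext
      change x⁻¹ * (x * g * x⁻¹) * x = g
      group

end Cov

end Cfsg.Agent.LyonsType.Cov
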